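import Mathlib
import Cfsg.Agent.Classical.SLGen
/-!
Generation of SL_{n+1} by the cyclic monomial matrix together with root elements for one position.
-/
set_option autoImplicit false

namespace CfsgLib.SLTwoGen

open Matrix

variable {K : Type*} [Field K] {n : ℕ}

/-- All transvections in position `(i, j)` lie in `M`. -/
def AllIn (M : Subgroup (SpecialLinearGroup (Fin (n + 1)) K)) (i j : Fin (n + 1)) : Prop :=
  ∀ (h : i ≠ j) (c : K), SpecialLinearGroup.transvection h c ∈ M

theorem AllIn.trans {M : Subgroup (SpecialLinearGroup (Fin (n + 1)) K)} {i k j : Fin (n + 1)}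
    (h1 : AllIn M i k) (h2 : AllIn M k j) (hik : i ≠ k) (hkj : k ≠ j) : AllIn M i j := by
  intro hij c
  rw [← mul_one c, ← Cfsg.Agent.Classical.commutator_transvection_transvection hij hik hkj,
    commutatorElement_def]
  exact M.mul_mem (M.mul_mem (M.mul_mem (h1 hik c) (h2 hkj 1)) (M.inv_mem (h1 hik c)))
    (M.inv_mem (h2 hkj 1))

/-- Transvections along all edges of the cycle `0 → 1 → ⋯ → n → 0` generate. -/
theorem eq_top_of_cycle (M : Subgroup (SpecialLinearGroup (Fin (n + 1)) K))
    (hstep : ∀ i j : Fin (n + 1), j.val = i.val + 1 → AllIn M i j)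
    (hlast : AllIn M (Fin.last n) 0) : M = ⊤ := by
  refine Cfsg.Agent.Classical.sl_subgroup_eq_top_of_transvection_mem M ?_
  have hup : ∀ d (i j : Fin (n + 1)), j.val = i.val + d + 1 → AllIn M i j := by
    intro d
    induction d with
    | zero => exact fun i j h => hstep i j h
    | succ d ih =>
      intro i j h
      have hk : i.val + d + 1 < n + 1 := by omega
      refine (ih i ⟨_, hk⟩ rfl).trans (hstep ⟨_, hk⟩ j (by simp; omega)) ?_ ?_
      · simp [Fin.ext_iff]; omega
      · simp [Fin.ext_iff]; omega
  have hlt : ∀ i j : Fin (n + 1), i < j → AllIn M i j := fun i j h => by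
    have : i.val < j.val := h
    exact hup (j.val - i.val - 1) i j (by omega)
  have hto0 : ∀ i : Fin (n + 1), i ≠ 0 → AllIn M i 0 := by
    intro i hi
    by_cases hil : i = Fin.last n
    · subst hil; exact hlast
    · have h1 : i < Fin.last n := lt_of_le_of_ne (Fin.le_last i) hil
      refine (hlt _ _ h1).trans hlast hil ?_
      intro h
      rw [h] at h1
      exact absurd h1 (Fin.not_lt_zero i)
  intro i j hij c
  rcases lt_or_gt_of_ne hij with h | h
  · exact hlt i j h hij c
  · by_cases hj : j = 0
    · subst hj; exact hto0 i hij hij c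
    · have hi : i ≠ 0 := fun h0 => by subst h0; exact absurd h (Fin.not_lt_zero j)
      exact (hto0 i hi).trans (hlt 0 j (Fin.pos_iff_ne_zero.2 hj)) hi (Ne.symm hj) hij c

/-- The shape of the monomial matrix `w`: it sends `e_{i+1}` to `e_i` and `e_0` to `(-1)^n e_n`. -/
def IsCycleW (w : SpecialLinearGroup (Fin (n + 1)) K) : Prop :=
  (w : Matrix (Fin (n + 1)) (Fin (n + 1)) K) =
    Matrix.of fun i j => if j.val = i.val + 1 then 1 else if i.val = n ∧ j.val = 0 then (-1) ^ n else 0

theorem cycleW_apply {w : SpecialLinearGroup (Fin (n + 1)) K} (hw : IsCycleW w) (a b : Fin (n + 1)) :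
    (w : Matrix (Fin (n + 1)) (Fin (n + 1)) K) a b =
      if finRotate (n + 1) a = b then (if a = Fin.last n then (-1) ^ n else 1) else 0 := by
  rw [hw, Matrix.of_apply]
  rcases eq_or_ne a (Fin.last n) with rfl | ha
  · rw [finRotate_last, if_neg (by simp; omega)]
    by_cases hb : b = 0
    · subst hb; simp
    · have hb' : b.val ≠ 0 := fun h => hb (Fin.ext h)
      simp [Ne.symm hb, hb']
  · have hlt : a.val < n := Fin.val_lt_last ha
    rw [finRotate_apply, if_neg ha]
    have : (a + 1).val = a.val + 1 := Fin.val_add_one_of_lt (lt_of_le_of_ne (Fin.le_last a) ha)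
    by_cases hb : a + 1 = b
    · subst hb; simp [this]
    · have hb' : b.val ≠ a.val + 1 := fun h => hb (Fin.ext (by rw [this, h]))
      simp [hb, hb']
      omega

/-- Conjugation by `w` moves a transvection one step along the cycle. -/
theorem conj_transvection {w : SpecialLinearGroup (Fin (n + 1)) K} (hw : IsCycleW w)
    {i j : Fin (n + 1)} (hij : i ≠ j) (hij' : finRotate (n + 1) i ≠ finRotate (n + 1) j) :
    ∃ a : K, a ≠ 0 ∧ ∀ c : K, w * SpecialLinearGroup.transvection hij' c * w⁻¹ =
      SpecialLinearGroup.transvection hij (a * c) := by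
  let s : Fin (n + 1) → K := fun a => if a = Fin.last n then (-1) ^ n else 1
  have hs : ∀ a, s a ≠ 0 := fun a => by simp only [s]; split_ifs <;> simp
  refine ⟨s i / s j, div_ne_zero (hs i) (hs j), fun c => ?_⟩
  rw [mul_inv_eq_iff_eq_mul]
  refine Subtype.ext ?_
  simp only [Matrix.SpecialLinearGroup.coe_mul, SpecialLinearGroup.transvection_coe, mul_add, mul_one,
    add_mul, one_mul]
  congr 1
  ext a b
  rw [Matrix.mul_apply, Matrix.mul_apply]
  have hL : ∑ x, (w : Matrix (Fin (n + 1)) (Fin (n + 1)) K) a x *
      single (finRotate (n + 1) i) (finRotate (n + 1) j) c x b =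
      if a = i ∧ finRotate (n + 1) j = b then s i * c else 0 := by
    rw [Finset.sum_eq_single (finRotate (n + 1) a)]
    · simp only [cycleW_apply hw, if_true, single_apply, (finRotate (n + 1)).injective.eq_iff, eq_comm (a := i)]
      split_ifs <;> simp_all [s]
    · intro x _ hx; rw [cycleW_apply hw, if_neg (Ne.symm hx), zero_mul]
    · simp
  have hR : ∑ x, single i j (s i / s j * c) a x * (w : Matrix (Fin (n + 1)) (Fin (n + 1)) K) x b =
      if a = i ∧ finRotate (n + 1) j = b then s i * c else 0 := by
    rw [Finset.sum_eq_single j]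
    · simp only [cycleW_apply hw, single_apply, and_true, eq_comm (a := i)]
      have := hs j
      split_ifs <;> simp_all [s] <;> field_simp
    · intro x _ hx; simp [Ne.symm hx]
    · simp
  rw [hL, hR]

/-- If `w` and all transvections in position `(0, 1)` lie in `M`, then `M = ⊤`. -/
theorem eq_top_of_cycleW (hn : 1 ≤ n) {w : SpecialLinearGroup (Fin (n + 1)) K} (hw : IsCycleW w)
    (M : Subgroup (SpecialLinearGroup (Fin (n + 1)) K)) (hwM : w ∈ M) (h01 : AllIn M 0 1) : M = ⊤ := by
  have hback : ∀ i j : Fin (n + 1), AllIn M (finRotate (n + 1) i) (finRotate (n + 1) j) → AllIn M i j := by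
    intro i j h hij c
    have hij' : finRotate (n + 1) i ≠ finRotate (n + 1) j := (finRotate (n + 1)).injective.ne hij
    obtain ⟨a, ha, hconj⟩ := conj_transvection hw hij hij'
    have := hconj (c / a)
    rw [mul_div_cancel₀ c ha] at this
    rw [← this]
    exact M.mul_mem (M.mul_mem hwM (h hij' _)) (M.inv_mem hwM)
  have hone : (1 : Fin (n + 1)) = finRotate (n + 1) 0 := by rw [finRotate_apply, zero_add]
  have hl : AllIn M (Fin.last n) 0 := hback _ _ (by rw [finRotate_last, ← hone]; exact h01)
  refine eq_top_of_cycle M ?_ hl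
  have hst : ∀ d, d < n → ∀ i j : Fin (n + 1), i.val + d + 1 = n → j.val = i.val + 1 → AllIn M i j := by
    intro d hd
    induction d with
    | zero =>
      intro i j hi hj
      have e1 : finRotate (n + 1) i = Fin.last n := by
        rw [finRotate_apply]; apply Fin.ext
        rw [Fin.val_add_one_of_lt (Fin.lt_def.2 (by simp; omega)), Fin.val_last]; omega
      have e2 : finRotate (n + 1) j = 0 := by
        rw [show j = Fin.last n from Fin.ext (by simp; omega), finRotate_last]
      exact hback i j (by rw [e1, e2]; exact hl)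
    | succ d ih =>
      intro i j hi hj
      refine hback i j (ih (by omega) _ _ ?_ ?_)
      · rw [finRotate_apply, Fin.val_add_one_of_lt (Fin.lt_def.2 (by simp; omega))]; omega
      · rw [finRotate_apply, finRotate_apply,
          Fin.val_add_one_of_lt (Fin.lt_def.2 (by simp; omega)),
          Fin.val_add_one_of_lt (Fin.lt_def.2 (by simp; omega))]
        omega
  intro i j hj
  exact hst (n - i.val - 1) (by omega) i j (by omega) hj

end CfsgLib.SLTwoGen
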