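import Mathlib
import Cfsg.Agent.Lib.SLTwoGen.Basic
/-! Root elements from one non-trivial one, using the diagonal element `diag(k, k⁻¹, 1, …, 1)`. -/
set_option autoImplicit false

namespace CfsgLib.SLTwoGen

open Matrix

variable {K : Type*} [Field K]

/-- An additive subgroup containing a non-zero element and stable under multiplication by all
squares of a finite field is everything. -/
theorem addSubgroup_eq_top_of_sq [Finite K] (A : AddSubgroup K) {d : K} (hd : d ∈ A) (hd0 : d ≠ 0)
    (hsq : ∀ a ∈ A, ∀ u : K, u ^ 2 * a ∈ A) : A = ⊤ := by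
  refine eq_top_iff.2 fun x _ => ?_
  obtain ⟨y, hy⟩ : ∃ y, y * d = x := ⟨x / d, div_mul_cancel₀ x hd0⟩
  rw [← hy]
  by_cases h2 : (2 : K) = 0
  · have : CharP K 2 := CharTwo.of_one_ne_zero_of_two_eq_zero one_ne_zero h2
    obtain ⟨z, hz⟩ := FiniteField.isSquare_of_char_two (ringChar.eq K 2) y
    rw [hz, ← sq]
    exact hsq d hd z
  · have : y * d = ((y + 1) / 2) ^ 2 * d - ((y - 1) / 2) ^ 2 * d := by field_simp; ring
    rw [this]
    exact A.sub_mem (hsq d hd _) (hsq d hd _)

variable {n : ℕ}

/-- The parameters of the transvections in position `(i, j)` lying in `M`. -/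
def paramGroup (M : Subgroup (SpecialLinearGroup (Fin (n + 1)) K)) {i j : Fin (n + 1)} (h : i ≠ j) :
    AddSubgroup K where
  carrier := {c | SpecialLinearGroup.transvection h c ∈ M}
  zero_mem' := by
    simp only [Set.mem_ofPred_eq, SpecialLinearGroup.transvection_coeff_zero]
    exact M.one_mem
  add_mem' {a b} ha hb := by
    simp only [Set.mem_ofPred_eq] at ha hb ⊢
    rw [SpecialLinearGroup.transvection_add]
    exact M.mul_mem ha hb
  neg_mem' {a} ha := by
    simp only [Set.mem_ofPred_eq] at ha ⊢
    rw [← SpecialLinearGroup.transvection_inv]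
    exact M.inv_mem ha

theorem mem_paramGroup {M : Subgroup (SpecialLinearGroup (Fin (n + 1)) K)} {i j : Fin (n + 1)}
    (h : i ≠ j) (c : K) : c ∈ paramGroup M h ↔ SpecialLinearGroup.transvection h c ∈ M := Iff.rfl

theorem diag_conj_transvection {h : SpecialLinearGroup (Fin (n + 1)) K} {D : Fin (n + 1) → K}
    (hD : (h : Matrix (Fin (n + 1)) (Fin (n + 1)) K) = diagonal D) {i j : Fin (n + 1)} (hij : i ≠ j)
    (hj : D j ≠ 0) (c : K) :
    h * SpecialLinearGroup.transvection hij c * h⁻¹ =
      SpecialLinearGroup.transvection hij (D i / D j * c) := by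
  rw [mul_inv_eq_iff_eq_mul]
  refine Subtype.ext ?_
  simp only [Matrix.SpecialLinearGroup.coe_mul, SpecialLinearGroup.transvection_coe, hD, mul_add,
    mul_one, add_mul, one_mul]
  congr 1
  ext a b
  simp only [diagonal_mul, mul_diagonal, single_apply]
  split_ifs with hab
  · obtain ⟨rfl, rfl⟩ := hab
    field_simp
  · ring

end CfsgLib.SLTwoGen
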